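import Groth.Agent.LieDer.Point
import Groth.Agent.OmegaLib.FiniteType

/-!
The Lie algebra of the automorphism group scheme is the module of derivations.
-/

set_option autoImplicit false
set_option linter.style.haveILetI false
set_option backward.isDefEq.respectTransparency false
set_option backward.isDefEq.respectTransparency.types false
set_option maxHeartbeats 1000000

universe u

open CategoryTheory CategoryTheory.Limits MonoidalCategory CartesianMonoidalCategory MonObj GrpObj
open AlgebraicGeometry Opposite
open Groth.Agent.ExpSeq (Xε sect dnMap dnPoint)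
open Groth.Agent.OmegaThick (Fot)

noncomputable section

namespace Groth.Agent.LieDer

variable {k : Type u} [Field k] {X : Over (Spec (CommRingCat.of k))}

theorem fot_dnPoint : OmegaThick.Fot (dnPoint k) := by
  refine OmegaThick.fot_spec _ (fun c => ⟨TrivSqZeroExt.inl c, rfl⟩) ?_
  rw [eq_bot_iff, pow_two, Ideal.mul_le]
  intro x hx y hy
  have hx' : x.fst = 0 := hx
  have hy' : y.fst = 0 := hy
  exact (Ideal.mem_bot).2 (TrivSqZeroExt.ext (by simp [hx']) (by simp [hx', hy']))

/-- The section of the first order neighbourhood, over the field. -/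
theorem whisker_pO_eq :
    letI : X.left.Over (Spec (CommRingCat.of k)) := ⟨X.hom⟩
    pullback.lift (𝟙 X.left) X.hom (show 𝟙 X.left ≫ X.hom = X.hom ≫ (𝟙_ (Over (Spec (CommRingCat.of k)))).hom from
      (Category.id_comp _).trans (Category.comp_id _).symm) ≫ (X ◁ pO k).left = sect k X.left := by
  letI : X.left.Over (Spec (CommRingCat.of k)) := ⟨X.hom⟩
  apply pullback.hom_ext
  · rw [Category.assoc]
    refine Eq.trans ?_ (ExpSeq.sect_fst (k := k) X.left).symm
    refine (congrArg _ (Over.whiskerLeft_left_fst (R := X) (pO k))).trans ?_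
    exact pullback.lift_fst _ _ _
  · rw [Category.assoc]
    refine (congrArg _ (Over.whiskerLeft_left_snd (R := X) (pO k))).trans ?_
    exact (pullback.lift_snd_assoc _ _ _ _).trans (pullback.lift_snd _ _ _).symm

variable {G : Over (Spec (CommRingCat.of k))} [GrpObj G] (a : AlgGrp.Action G X)

/-- The trivial family. -/
theorem famOf_one (T : Over (Spec (CommRingCat.of k))) : AutSch.famOf a (1 : T ⟶ G) = fst X T := by
  rw [AutSch.famOf, comp_one]
  exact GrpAct.one_smul' a _

/-- A family over the dual numbers whose restriction is trivial is an extension of the identity. -/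
theorem isLift_of_pull (φ : X ⊗ dO k ⟶ X) (h : AutSch.pullFam (pO k) φ = fst X (𝟙_ _)) :
    letI : X.left.Over (Spec (CommRingCat.of k)) := ⟨X.hom⟩
    HomTan.IsLift X.hom (𝟙 X.left) φ.left := by
  letI : X.left.Over (Spec (CommRingCat.of k)) := ⟨X.hom⟩
  refine ⟨Over.w φ, ?_⟩
  rw [← whisker_pO_eq, Category.assoc]
  refine (congrArg _ (congrArg (fun q => q.left) h)).trans ?_
  exact pullback.lift_fst _ _ _

variable (hG : AutSch.Represents X G a)
include hG

/-- A point with trivial family is trivial. -/
theorem eq_one_of_famOf {T : Over (Spec (CommRingCat.of k))} (g : T ⟶ G) (hg : AutSch.famOf a g = fst X T) :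
    g = 1 := by
  have haut : AutSch.IsAutFamily (fst X T) := by
    rw [AutSch.IsAutFamily, AutSch.endOf, lift_fst_snd]
    infer_instance
  exact ((AutSch.represents_iff G a).1 hG T _ haut).unique hg (famOf_one a T)

omit hG in
/-- An extension of the identity is a family of automorphisms. -/
theorem isAutFamily_of_isLift (φ : X ⊗ dO k ⟶ X)
    (h : letI : X.left.Over (Spec (CommRingCat.of k)) := ⟨X.hom⟩; HomTan.IsLift X.hom (𝟙 X.left) φ.left) :
    AutSch.IsAutFamily φ := by
  letI : X.left.Over (Spec (CommRingCat.of k)) := ⟨X.hom⟩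
  let e : X ⊗ dO k ⟶ X ⊗ dO k := AutSch.endOf φ
  let f' : Xε k X.left ⟶ Xε k X.left := e.left
  have hs : f' ≫ pullback.snd X.hom (dnMap k) = pullback.snd X.hom (dnMap k) :=
    congrArg (fun q => q.left) (AutSch.endOf_snd φ)
  have hf : f' ≫ pullback.fst X.hom (dnMap k) = φ.left := congrArg (fun q => q.left) (AutSch.endOf_fst φ)
  haveI : Flat X.hom := AlgSpLib.flat_of_field _
  haveI : Flat (f' ≫ pullback.snd X.hom (dnMap k)) := by rw [hs]; infer_instance
  haveI := Fot.isClosedImmersion (fot_dnPoint (k := k))
  haveI := Fot.surjective (fot_dnPoint (k := k))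
  have hcY : IsPullback (sect k X.left) X.hom (pullback.snd X.hom (dnMap k)) (dnPoint k) :=
    (ExpSeq.isPullback_sect (k := k) X.left).flip
  have hcX : IsPullback (sect k X.left) (𝟙 X.left ≫ X.hom) (f' ≫ pullback.snd X.hom (dnMap k)) (dnPoint k) := by
    rw [hs, Category.id_comp]; exact hcY
  have w : sect k X.left ≫ f' = 𝟙 X.left ≫ sect k X.left := by
    rw [Category.id_comp]
    apply pullback.hom_ext
    · rw [Category.assoc]
      exact (congrArg (sect k X.left ≫ ·) hf).trans (h.res.trans (ExpSeq.sect_fst (k := k) X.left).symm)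
    · rw [Category.assoc]
      exact congrArg (sect k X.left ≫ ·) hs
  haveI : IsIso f' := ThickProp.isIso_of_deform hcX hcY w
    ⟨2, by rw [pow_two]; exact (fot_dnPoint (k := k)).2⟩
  haveI : IsIso ((Over.forget _).map e) := ‹IsIso f'›
  exact isIso_of_reflects_iso e (Over.forget _)

variable [LocallyOfFiniteType G.hom] [QuasiSeparated X.hom]

/-- No tangent vectors if and only if no derivations. -/
theorem main :
    FormallyUnramified G.hom ↔
      ∀ (D : OmegaSh.Der X.hom (Coh.structureModule X.left)) (U : X.left.Opens) (s : Γ(X.left, U)),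
        D.app U s = 0 := by
  letI : X.left.Over (Spec (CommRingCat.of k)) := ⟨X.hom⟩
  have hu := OmegaLib.isUniversal_dOmega X.hom
  let ι₀ := (Scheme.Modules.pushforwardId X.left).inv.app (Coh.structureModule X.left)
  have htriv : HomTan.IsLift X.hom (𝟙 X.left) (fst X (dO k)).left :=
    ⟨Over.w (fst X (dO k)), ExpSeq.sect_fst (k := k) X.left⟩
  constructor
  · intro hU D U s
    obtain ⟨α, hα, -⟩ := hu _ D
    have huniq : ∀ β : Omega.sheaf X.hom ⟶ (Scheme.Modules.pushforward (𝟙 X.left)).obj (Coh.structureModule X.left),
        HomTan.IsTan X.hom (𝟙 X.left) (fst X (dO k)).left β := by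
      intro β
      obtain ⟨h, hh, hT⟩ := HomTan.exists_isLift (Category.id_comp X.hom) β
      let φ : X ⊗ dO k ⟶ X := Over.homMk h hh.comp
      obtain ⟨P, hP, -⟩ := (AutSch.represents_iff G a).1 hG _ φ (isAutFamily_of_isLift φ hh)
      have hp : pO k ≫ P = 1 := by
        apply eq_one_of_famOf a hG
        rw [AutSch.famOf_comp, hP]
        refine Over.OverMorphism.ext ?_
        have hi : IsIso (pullback.fst X.hom (𝟙_ (Over (Spec (CommRingCat.of k)))).hom) := by
          show IsIso (pullback.fst X.hom (𝟙 _)); infer_instance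
        have hl : pullback.fst X.hom (𝟙_ (Over (Spec (CommRingCat.of k)))).hom ≫ pullback.lift (𝟙 X.left) X.hom
            (show 𝟙 X.left ≫ X.hom = X.hom ≫ (𝟙_ (Over (Spec (CommRingCat.of k)))).hom from
              (Category.id_comp _).trans (Category.comp_id _).symm) = 𝟙 _ := by
          apply pullback.hom_ext
          · rw [Category.assoc, pullback.lift_fst, Category.comp_id, Category.id_comp]
          · rw [Category.assoc, pullback.lift_snd, Category.id_comp, pullback.condition]
            exact Category.comp_id _
        show (X ◁ pO k).left ≫ h = pullback.fst _ _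
        calc (X ◁ pO k).left ≫ h
            = (pullback.fst X.hom (𝟙_ (Over (Spec (CommRingCat.of k)))).hom ≫ pullback.lift (𝟙 X.left) X.hom
              (show 𝟙 X.left ≫ X.hom = X.hom ≫ (𝟙_ (Over (Spec (CommRingCat.of k)))).hom from
                (Category.id_comp _).trans (Category.comp_id _).symm)) ≫ (X ◁ pO k).left ≫ h := by
              rw [hl, Category.id_comp]
          _ = pullback.fst _ _ ≫ sect k X.left ≫ h := by
              rw [Category.assoc, ← Category.assoc (pullback.lift _ _ _), whisker_pO_eq]
          _ = _ := by rw [hh.res]; exact Category.comp_id _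
      have hP1 : P = 1 := eq_one_of_unramified P hp
      have : h = (fst X (dO k)).left := by
        have e : φ = fst X (dO k) := by rw [← hP, hP1, famOf_one]
        exact congrArg (fun q => q.left) e
      exact this ▸ hT
    have hα0 : α = 0 := by
      have h1 := HomTan.isTan_unique (Category.id_comp X.hom) htriv (huniq (α ≫ ι₀)) (huniq 0)
      exact (cancel_mono ι₀).1 (h1.trans zero_comp.symm)
    rw [← hα, hα0]
    rfl
  · intro hD
    refine formallyUnramified_of_forall fun P hP => ?_
    have hlift : HomTan.IsLift X.hom (𝟙 X.left) (AutSch.famOf a P).left :=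
      isLift_of_pull _ (by rw [← AutSch.famOf_comp, hP, famOf_one])
    have hzero : ∀ β : Omega.sheaf X.hom ⟶ (Scheme.Modules.pushforward (𝟙 X.left)).obj (Coh.structureModule X.left),
        β = 0 := by
      intro β
      let α := β ≫ (Scheme.Modules.pushforwardId X.left).hom.app (Coh.structureModule X.left)
      have hα : α = 0 := by
        refine (hu _ ((OmegaSh.dOmega X.hom).postcomp α.val)).unique rfl ?_
        refine PresheafOfModules.Derivation.ext (funext fun U => AddMonoidHom.ext fun s => ?_)
        exact (hD ((OmegaSh.dOmega X.hom).postcomp α.val) U.unop s).symm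
      exact (cancel_mono ((Scheme.Modules.pushforwardId X.left).hom.app (Coh.structureModule X.left))).1
        (hα.trans zero_comp.symm)
    obtain ⟨α₁, hα₁⟩ := HomTan.exists_isTan (Category.id_comp X.hom) hlift
    obtain ⟨α₂, hα₂⟩ := HomTan.exists_isTan (Category.id_comp X.hom) htriv
    obtain rfl : α₁ = α₂ := (hzero α₁).trans (hzero α₂).symm
    exact eq_one_of_famOf a hG P (Over.OverMorphism.ext
      (HomTan.eq_of_isTan (Category.id_comp X.hom) hlift htriv hα₁ hα₂))

end Groth.Agent.LieDer
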