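import Groth.Agent.HomTan.Lift
import Groth.Agent.FieldPow.Tangent
import Groth.Agent.FieldPow.Etale
import Groth.Agent.ThickProp.Deform
import Groth.Agent.OmegaThick.Affine
import Groth.Agent.GrpAct.Basic
import Groth.Agent.AlgSpLib.FibreNoeth
import Groth.Prelude.Def_AutSch
import Mathlib

/-!
Tangent vectors at the unit of a group scheme over a field, and first order automorphisms.
-/

set_option autoImplicit false
set_option linter.style.haveILetI false
set_option backward.isDefEq.respectTransparency false
set_option backward.isDefEq.respectTransparency.types false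
set_option maxHeartbeats 1000000

universe u

open CategoryTheory CategoryTheory.Limits MonoidalCategory CartesianMonoidalCategory MonObj GrpObj
open AlgebraicGeometry Opposite
open Groth.Agent.ExpSeq (Xε sect dnMap dnPoint)

noncomputable section

namespace Groth.Agent.LieDer

variable {k : Type u} [Field k]

/-- The spectrum of the dual numbers over the field. -/
abbrev dO (k : Type u) [Field k] : Over (Spec (CommRingCat.of k)) := Over.mk (dnMap k)

/-- The base point of the spectrum of the dual numbers. -/
def pO (k : Type u) [Field k] : 𝟙_ (Over (Spec (CommRingCat.of k))) ⟶ dO k :=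
  Over.homMk (dnPoint k) (ExpSeq.dnPoint_dnMap k)

variable {G : Over (Spec (CommRingCat.of k))} [GrpObj G]

open Groth.Agent.FieldPow in
/-- The structure map at the unit through the stalk map. -/
theorem ic_eq : ic G = StructureSheaf.toStalk k (G.hom (ept G)) ≫ G.hom.stalkMap (ept G) :=
  Spec.map_injective (by
    rw [map_ic, Spec.map_comp]
    refine (Scheme.SpecMap_stalkMap_fromSpecStalk G.hom).symm.trans ?_
    exact congrArg (Spec.map (G.hom.stalkMap (ept G)) ≫ ·) (Spec.fromSpecStalk_eq' (R := CommRingCat.of k) _))

/-- At an unramified unit there are no tangent vectors. -/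
theorem eq_one_of_unramified [FormallyUnramified G.hom] (P : dO k ⟶ G)
    (hP : pO k ≫ P = 1) : P = 1 := by
  open Groth.Agent.FieldPow in
  obtain ⟨δ, hδ⟩ := exists_rep (K := k) (M := k) (P := P) hP
  obtain ⟨φ, hφ, hf, hs⟩ := id hδ
  letI : Algebra k (O G) := (ic G).hom.toAlgebra
  haveI : Algebra.FormallyUnramified k (O G) := by
    rw [← RingHom.formallyUnramified_algebraMap, RingHom.algebraMap_toAlgebra]
    rw [ic_eq, CommRingCat.hom_comp]
    refine RingHom.FormallyUnramified.stableUnderComposition _ _ ?_ (FormallyUnramified.stalkMap G.hom _)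
    refine RingHom.formallyUnramified_algebraMap.2 ?_
    exact Algebra.FormallyUnramified.of_isLocalization (PrimeSpectrum.asIdeal (R := k) (G.hom (ept G))).primeCompl
  have h2 : ic G ≫ φ = CommRingCat.ofHom (TrivSqZeroExt.inlHom k k) := Spec.map_injective (by
    rw [Spec.map_comp, map_ic, reassoc_of% hφ]
    exact Over.w P)
  let g₁ : O G →ₐ[k] DualNumber k :=
    { φ.hom with commutes' := fun c => congrArg (fun q => q.hom c) h2 }
  let g₂ : O G →ₐ[k] DualNumber k :=
    { (TrivSqZeroExt.inlHom k k).comp (εc G).hom with
      commutes' := fun c => congrArg (TrivSqZeroExt.inlHom k k) (εc_ic G c) }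
  have hg : g₁ = g₂ := by
    refine Algebra.FormallyUnramified.lift_unique_of_ringHom (TrivSqZeroExt.fstHom k k k).toRingHom
      ⟨2, ?_⟩ g₁ g₂ (RingHom.ext fun a => hf a)
    rw [pow_two, Ideal.zero_eq_bot, eq_bot_iff, Ideal.mul_le]
    intro x hx y hy
    have hx' : x.fst = 0 := hx
    have hy' : y.fst = 0 := hy
    exact (Ideal.mem_bot).2 (TrivSqZeroExt.ext (by simp [hx']) (by simp [hx', hy']))
  have hδ0 : δ = fun _ => 0 := by
    funext a
    rw [← hs]
    exact congrArg TrivSqZeroExt.snd (AlgHom.congr_fun hg a)
  subst hδ0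
  exact hδ.ext rep_one

/-- Without tangent vectors at the unit, a group scheme locally of finite type is unramified. -/
theorem formallyUnramified_of_forall [LocallyOfFiniteType G.hom]
    (h : ∀ P : dO k ⟶ G, pO k ≫ P = 1 → P = 1) : FormallyUnramified G.hom := by
  open Groth.Agent.FieldPow in
  haveI : IsLocallyNoetherian G.left := LocallyOfFiniteType.isLocallyNoetherian G.hom
  let : Algebra k (O G) := (ic G).hom.toAlgebra
  set m := IsLocalRing.maximalIdeal (O G)
  have hm : ∀ a, a - (ic G).hom ((εc G).hom a) ∈ m := fun a => by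
    rw [show m = _ from (ker_εc G).symm, RingHom.mem_ker, map_sub, εc_ic, sub_self]
  have hle : ∀ a ∈ m, a ∈ m ^ 2 := by
    intro a ha
    by_contra hne
    let V : Submodule k (O G) := (m ^ 2).restrictScalars k ⊔ Submodule.span k {(1 : O G)}
    have hbV : a ∉ V := by
      intro hb
      obtain ⟨x, hx, y, hy, e⟩ := Submodule.mem_sup.1 hb
      obtain ⟨c, rfl⟩ := Submodule.mem_span_singleton.1 hy
      rw [Submodule.restrictScalars_mem] at hx
      have ha0 : (εc G).hom a = 0 := by rw [← RingHom.mem_ker, ker_εc]; exact ha
      have hx0 : (εc G).hom x = 0 := by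
        rw [← RingHom.mem_ker, ker_εc]; exact Ideal.pow_le_self two_ne_zero hx
      have hc : c = 0 := by
        have h' := congrArg (εc G).hom e
        rw [map_add, ha0, hx0, zero_add, Algebra.smul_def, _root_.mul_one] at h'
        exact (εc_ic G c).symm.trans h'
      rw [hc, zero_smul, add_zero] at e
      exact hne (e ▸ hx)
    obtain ⟨f, hfb, hfV⟩ := Submodule.exists_dual_map_eq_bot_of_notMem hbV inferInstance
    have hf0 : ∀ x ∈ V, f x = 0 := fun x hx => by
      have := Submodule.mem_map_of_mem (f := f) hx
      rwa [hfV] at this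
    have hfi : ∀ c, f ((ic G).hom c) = 0 := fun c => hf0 _ (Submodule.mem_sup_right
      (Submodule.mem_span_singleton.2 ⟨c, by rw [Algebra.smul_def, _root_.mul_one]; rfl⟩))
    have hδ : ∀ x y, f (x * y) = (εc G).hom x • f y + (εc G).hom y • f x := by
      intro x y
      have h0 : f ((x - (ic G).hom ((εc G).hom x)) * (y - (ic G).hom ((εc G).hom y))) = 0 :=
        hf0 _ (Submodule.mem_sup_left (by
          rw [Submodule.restrictScalars_mem, pow_two]; exact Ideal.mul_mem_mul (hm x) (hm y)))
      have e : x * y = (εc G).hom x • y + (εc G).hom y • x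
          - (ic G).hom ((εc G).hom x * (εc G).hom y)
          + (x - (ic G).hom ((εc G).hom x)) * (y - (ic G).hom ((εc G).hom y)) := by
        simp only [Algebra.smul_def, RingHom.algebraMap_toAlgebra, map_mul]; ring
      rw [e, map_add, map_sub, map_add, map_smul, map_smul, h0, hfi, sub_zero, add_zero]
    obtain ⟨P, hP⟩ := exists_rep_derivation (M := k) f.toAddMonoidHom hδ hfi
    have h1 : P = 1 := h P hP.tzero
    subst h1
    exact hfb (congrFun (hP.unique rep_one) a)
  have hbot : m = ⊥ := Submodule.eq_bot_of_le_smul_of_le_jacobson_bot m m (IsNoetherian.noetherian m)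
    (fun a ha => by rw [smul_eq_mul, ← pow_two]; exact hle a ha) (IsLocalRing.maximalIdeal_le_jacobson ⊥)
  have hsurj : Function.Surjective (ic G).hom := fun a => ⟨(εc G).hom a, by
    rw [← sub_eq_zero, ← Ideal.mem_bot, ← hbot, ← Submodule.neg_mem_iff, neg_sub]; exact hm a⟩
  have hst : Function.Surjective (G.hom.stalkMap (ept G)).hom := fun a => by
    obtain ⟨c, hc⟩ := hsurj a
    exact ⟨StructureSheaf.toStalk k (G.hom (ept G)) c, by rw [← hc, ic_eq]; rfl⟩
  have hflat : (G.hom.stalkMap (ept G)).hom.Flat :=
    haveI := AlgSpLib.flat_of_field G.hom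
    Flat.stalkMap G.hom _
  haveI : LocallyOfFinitePresentation G.hom := inferInstance
  obtain ⟨U, hU, het⟩ := exists_etale_nhd G.hom (ept G) hflat
    (RingHom.FormallyUnramified.of_surjective hst)
  let q : G ⟶ 𝟙_ (Over (Spec (CommRingCat.of k))) := toUnit G
  haveI : LocallyOfFiniteType q.left := by
    show LocallyOfFiniteType (toUnit G).left
    rw [Over.toUnit_left]; infer_instance
  haveI : FormallyUnramified (U.ι ≫ q.left) := by
    rw [show q.left = G.hom from Over.toUnit_left]
    infer_instance
  have h2 := formallyUnramified_of_nhd q U fun p => by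
    obtain rfl : p = IsLocalRing.closedPoint k := Subsingleton.elim (α := PrimeSpectrum k) _ _
    exact hU
  rwa [show q.left = G.hom from Over.toUnit_left] at h2

end Groth.Agent.LieDer
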